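import Cfsg.Agent.Known.SLTwo.Torus
import Mathlib.NumberTheory.LegendreSymbol.Basic

/-!
Self-centralizing non-cyclic subgroups in `PSL₂(q)`.
-/

set_option autoImplicit false
set_option linter.unusedSectionVars false
set_option linter.style.haveILetI false

open Matrix
open scoped MatrixGroups

namespace Cfsg.Lib.SelfCentNC

open Cfsg.Lib.GLTwo

/-- Every non-cyclic subgroup contains its centralizer. -/
def HasProp (G : Type*) [Group G] : Prop :=
  ∀ H : Subgroup G, ¬ IsCyclic ↥H → Subgroup.centralizer (H : Set G) ≤ H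

theorem hasProp_congr {G X : Type*} [Group G] [Group X] (e : G ≃* X) (h : HasProp X) : HasProp G := by
  intro H hH x hx
  have h1 : ¬ IsCyclic ↥(H.map e.toMonoidHom) := by
    intro hc
    haveI : IsCyclic ↥(H.map (e : G →* X)) := hc
    exact hH (isCyclic_of_surjective (e.subgroupMap H).symm (e.subgroupMap H).symm.surjective)
  have h2 : e x ∈ H.map e.toMonoidHom := h _ h1 (Subgroup.mem_centralizer_iff.2 (by
    rintro _ ⟨y, hy, rfl⟩
    show e y * e x = e x * e y
    rw [← map_mul, ← map_mul, Subgroup.mem_centralizer_iff.1 hx y hy]))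
  obtain ⟨y, hy, hye⟩ := h2
  exact e.injective hye ▸ hy

theorem hasProp_of_cent {G : Type*} [Group G]
    (h : ∀ x : G, x ≠ 1 → ∀ H : Subgroup G, H ≤ Subgroup.centralizer ({x} : Set G) → ¬ IsCyclic ↥H → x ∈ H) :
    HasProp G := by
  intro H hH x hx
  by_cases hx1 : x = 1
  · exact hx1 ▸ H.one_mem
  exact h x hx1 H (fun y hy => Subgroup.mem_centralizer_singleton_iff.2 (Subgroup.mem_centralizer_iff.1 hx y hy)) hH

theorem eq_of_sq_one_cyclic {G : Type*} [Group G] [Finite G] (R : Subgroup G) [IsCyclic ↥R] {x y : G}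
    (hx : x ∈ R) (hy : y ∈ R) (hx1 : x ≠ 1) (hy1 : y ≠ 1) (hx2 : x * x = 1) (hy2 : y * y = 1) : x = y := by
  classical
  haveI := Fintype.ofFinite ↥R
  by_contra hne
  have h := IsCyclic.card_pow_eq_one_le (α := ↥R) (n := 2) (by norm_num)
  have hsub : ({1, ⟨x, hx⟩, ⟨y, hy⟩} : Finset ↥R) ⊆ Finset.univ.filter (fun z : ↥R => z ^ 2 = 1) := by
    intro z hz
    simp only [Finset.mem_insert, Finset.mem_singleton] at hz
    rw [Finset.mem_filter]
    refine ⟨Finset.mem_univ _, ?_⟩
    rcases hz with rfl | rfl | rfl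
    · exact one_pow 2
    · exact Subtype.ext (by simpa [pow_two] using hx2)
    · exact Subtype.ext (by simpa [pow_two] using hy2)
  have h3 : ({1, ⟨x, hx⟩, ⟨y, hy⟩} : Finset ↥R).card = 3 := by
    rw [Finset.card_insert_of_notMem, Finset.card_insert_of_notMem, Finset.card_singleton]
    · simp only [Finset.mem_singleton]
      exact fun e => hne (congrArg Subtype.val e)
    · simp only [Finset.mem_insert, Finset.mem_singleton, not_or]
      exact ⟨fun e => hx1 (congrArg Subtype.val e).symm, fun e => hy1 (congrArg Subtype.val e).symm⟩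
  have := Finset.card_le_card hsub
  omega

/-- A non-cyclic subgroup of a `2`-group with a cyclic subgroup of index at most two contains its involution. -/
theorem mem_of_index_two {G : Type*} [Group G] [Finite G] (C R H : Subgroup G) (hRC : R ≤ C) [IsCyclic ↥R]
    (hidx : R.relIndex C ≤ 2) (hidx0 : R.relIndex C ≠ 0) (h2 : IsPGroup 2 ↥C) {x : G} (hx : x ∈ R) (hx1 : x ≠ 1)
    (hx2 : x * x = 1) (hH : H ≤ C) (hnc : ¬ IsCyclic ↥H) : x ∈ H := by
  haveI : Fact (Nat.Prime 2) := ⟨Nat.prime_two⟩
  have hne : R ⊓ H ≠ ⊥ := by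
    intro e
    have h1 : R.relIndex H ≤ R.relIndex C := Subgroup.relIndex_le_of_le_right hH hidx0
    have hc : Nat.card ↥H ≤ 2 := by
      have h3 := Subgroup.inf_relIndex_right R H
      rw [e, Subgroup.relIndex_bot_left] at h3
      omega
    apply hnc
    have hpos : 0 < Nat.card ↥H := Nat.card_pos
    by_cases h1' : Nat.card ↥H = 1
    · haveI : Subsingleton ↥H := (Nat.card_eq_one_iff_unique.1 h1').1
      infer_instance
    · exact isCyclic_of_prime_card (p := 2) (by omega)
  haveI : Nontrivial ↥(R ⊓ H) := (Subgroup.nontrivial_iff_ne_bot _).2 hne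
  have hp : IsPGroup 2 ↥(R ⊓ H) := h2.to_le (inf_le_left.trans hRC)
  obtain ⟨y, hy⟩ := exists_prime_orderOf_dvd_card' 2 (by
    obtain ⟨n, hn⟩ := IsPGroup.iff_card.1 hp
    have := Finite.one_lt_card (α := ↥(R ⊓ H))
    rcases n with _ | n
    · omega
    · rw [hn]; exact dvd_pow_self 2 (by omega))
  have hy1 : (y : G) ≠ 1 := fun e => by
    have hy' := Subgroup.orderOf_coe y
    rw [e, orderOf_one, hy] at hy'
    omega
  have hy2 : (y : G) * y = 1 := by
    rw [← pow_two, ← Subgroup.coe_pow, ← hy, pow_orderOf_eq_one, Subgroup.coe_one]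
  have hxy := eq_of_sq_one_cyclic R hx y.2.1 hx1 hy1 hx2 hy2
  rw [hxy]
  exact y.2.2

variable {F : Type*} [Field F] [Fintype F]

local notation "X" => Matrix.ProjectiveSpecialLinearGroup (Fin 2) F

theorem sq_eq_neg_one {s : SL(2, F)} (ht : (s : Matrix (Fin 2) (Fin 2) F).trace = 0) : s * s = -1 := by
  have hd := Matrix.det_fin_two (s : Matrix (Fin 2) (Fin 2) F)
  rw [s.2] at hd
  rw [Matrix.trace_fin_two] at ht
  refine Subtype.ext ?_
  simp only [Matrix.SpecialLinearGroup.coe_mul, Matrix.SpecialLinearGroup.coe_neg, Matrix.SpecialLinearGroup.coe_one]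
  ext i j
  fin_cases i <;> fin_cases j <;> simp [Matrix.mul_apply, Fin.sum_univ_two]
  · linear_combination (s : Matrix (Fin 2) (Fin 2) F) 0 0 * ht + hd
  · linear_combination (s : Matrix (Fin 2) (Fin 2) F) 0 1 * ht
  · linear_combination (s : Matrix (Fin 2) (Fin 2) F) 1 0 * ht
  · linear_combination (s : Matrix (Fin 2) (Fin 2) F) 1 1 * ht + hd

theorem card_comap_prj (K : Subgroup X) :
    Nat.card ↥(K.comap prj) = Nat.gcd 2 (Fintype.card F - 1) * Nat.card ↥K := by
  have hk : Nat.card ↥(prj (F := F)).ker = Nat.gcd 2 (Fintype.card F - 1) := by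
    have e : (prj (F := F)).ker = Subgroup.center SL(2, F) := QuotientGroup.ker_mk' _
    rcases Nat.even_or_odd (Fintype.card F) with he | ho
    · haveI : CharP F 2 := ringChar.eq_iff.1 (FiniteField.even_card_iff_char_two.2 (Nat.even_iff.1 he))
      obtain ⟨k, hk⟩ := he
      have := Fintype.one_lt_card (α := F)
      rw [(Nat.coprime_two_left (n := Fintype.card F - 1)).2 ⟨k - 1, by omega⟩,
        (MonoidHom.ker_eq_bot_iff _).2 prj_injective, Subgroup.card_bot]
    · obtain ⟨k, hk⟩ := id ho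
      rw [Nat.gcd_eq_left ⟨k, by omega⟩]
      have hne : (1 : SL(2, F)) ≠ -1 := fun e => two_ne_zero_of_odd ho (by
        have h := congrArg (fun z : SL(2, F) => (z : Matrix (Fin 2) (Fin 2) F) 0 0) e
        simp at h
        linear_combination h)
      have hset : ((prj (F := F)).ker : Set SL(2, F)) = {1, -1} := by
        ext z
        rw [SetLike.mem_coe, MonoidHom.mem_ker, prj_eq_one_iff]
        rfl
      rw [← SetLike.coe_sort_coe, Nat.card_coe_set_eq, hset, Set.ncard_pair hne]
  rw [← hk, mul_comm]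
  have h1 := Subgroup.card_mul_index (K.comap (prj (F := F)))
  rw [Subgroup.index_comap_of_surjective _ (QuotientGroup.mk'_surjective _)] at h1
  have h2 := K.card_mul_index
  have h3 := Subgroup.card_mul_index (prj (F := F)).ker
  rw [Subgroup.index_ker, MonoidHom.range_eq_top.2 (QuotientGroup.mk'_surjective _), Subgroup.card_top] at h3
  have hpos : 0 < K.index := Nat.pos_of_ne_zero Subgroup.index_ne_zero_of_finite
  refine Nat.eq_of_mul_eq_mul_right hpos ?_
  rw [h1, ← h3, ← h2]
  ring

theorem isCyclic_cent {p : ℕ} [Fact p.Prime] [CharP F p] {s : SL(2, F)}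
    (hs : NonScalar (s : Matrix (Fin 2) (Fin 2) F))
    (hc : Nat.card ↥(Subgroup.centralizer ({s} : Set SL(2, F))) = Fintype.card F - 1) :
    IsCyclic ↥(Subgroup.centralizer ({s} : Set SL(2, F))) := by
  refine Cfsg.Lib.Classical.SLTwoTori.isCyclic_of_comm p _ (cent_comm hs) fun a ha => ?_
  refine Nat.Coprime.coprime_dvd_left (hc ▸ Subgroup.orderOf_dvd_natCard _ ha) ?_
  rw [Nat.coprime_comm, (Fact.out : p.Prime).coprime_iff_not_dvd]
  intro h
  obtain ⟨k, -, hk⟩ := FiniteField.card F p
  have h' : p ∣ Fintype.card F := hk ▸ dvd_pow_self p k.pos.ne'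
  have hpos : 1 ≤ Fintype.card F := Fintype.card_pos
  have := Nat.dvd_sub h' h
  rw [show Fintype.card F - (Fintype.card F - 1) = 1 by omega] at this
  exact (Fact.out : p.Prime).not_dvd_one this

/-- The property holds in `PSL₂(q)`. -/
theorem psl_prop (hq : (Fintype.card F).Prime ∨ Fintype.card F = 4 ∨ Fintype.card F = 9)
    (h1 : Fintype.card F % 4 = 1 → ∃ k, Fintype.card F - 1 = 2 ^ k)
    (h3 : Fintype.card F % 4 = 3 → ∃ k, Fintype.card F + 1 = 2 ^ k) : HasProp X := by
  classical
  obtain ⟨p, hp⟩ := CharP.exists F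
  haveI : Fact p.Prime := ⟨CharP.char_is_prime F p⟩
  refine hasProp_of_cent fun x hx1 H hH hnc => ?_
  obtain ⟨s, rfl⟩ := QuotientGroup.mk'_surjective (Subgroup.center SL(2, F)) x
  have hs : NonScalar (s : Matrix (Fin 2) (Fin 2) F) := by
    by_contra h
    obtain ⟨r, rfl⟩ := eq_upper_of_scalar h
    refine hx1 ((QuotientGroup.eq_one_iff _).2 ?_)
    rw [Cfsg.Lib.GLTwo.mem_center_iff]
    exact h
  set C := Subgroup.centralizer ({prj s} : Set X) with hC
  set cs := Subgroup.centralizer ({s} : Set SL(2, F)) with hcs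
  have hle : cs ≤ C.comap prj := fun z hz => by
    rw [Subgroup.mem_comap, Subgroup.mem_centralizer_singleton_iff, ← map_mul, ← map_mul,
      Subgroup.mem_centralizer_singleton_iff.1 hz]
  have hxcs : prj s ∈ cs.map prj := Subgroup.mem_map_of_mem _ (Subgroup.mem_centralizer_singleton_iff.2 rfl)
  by_cases ht : (s : Matrix (Fin 2) (Fin 2) F).trace ≠ 0 ∨ CharP F 2
  · have heq : cs = C.comap prj := Subgroup.eq_of_le_of_card_ge hle (card_comap_cent_of_trace_ne ht).le
    have hCmap : C = cs.map prj := by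
      rw [heq, Subgroup.map_comap_eq_self_of_surjective (QuotientGroup.mk'_surjective _)]
    have hcyc : IsCyclic ↥cs → False := fun h => by
      haveI := h
      haveI : IsCyclic ↥(cs.map prj) := isCyclic_of_surjective _ (prj.subgroupMap_surjective cs)
      haveI : IsCyclic ↥C := hCmap ▸ this
      exact hnc (Subgroup.isCyclic_of_le hH)
    rcases kinds hs with ⟨hi, -⟩ | ⟨-, hc⟩ | ⟨-, hc⟩
    · exact (hcyc (irred_cyclic p hs hi)).elim
    · exact (hcyc (isCyclic_cent (p := p) hs hc)).elim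
    · have hCq : Nat.card ↥C = Fintype.card F := by
        have h := card_comap_prj C
        rw [← heq, hc] at h
        exact (Nat.eq_of_mul_eq_mul_left (Nat.gcd_pos_of_pos_left _ two_pos) h).symm
      have key : ∀ r : ℕ, r.Prime → Nat.card ↥C = r ^ 2 → prj s ∈ H := by
        intro r hr hr2
        haveI : Fact r.Prime := ⟨hr⟩
        obtain ⟨j, hj, hj'⟩ := (Nat.dvd_prime_pow hr).1 (hr2 ▸ Subgroup.card_dvd_of_le hH)
        interval_cases j
        · haveI : Subsingleton ↥H := (Nat.card_eq_one_iff_unique.1 (by simpa using hj')).1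
          exact absurd (inferInstance : IsCyclic ↥H) hnc
        · exact absurd (isCyclic_of_prime_card (p := r) (by simpa using hj')) hnc
        · rw [Subgroup.eq_of_le_of_card_ge hH (by rw [hr2, hj'])]
          exact Subgroup.mem_centralizer_singleton_iff.2 rfl
      rcases hq with hq | hq | hq
      · haveI : Fact (Fintype.card F).Prime := ⟨hq⟩
        haveI := isCyclic_of_prime_card hCq
        exact absurd (Subgroup.isCyclic_of_le hH) hnc
      · exact key 2 Nat.prime_two (by rw [hCq, hq]; norm_num)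
      · exact key 3 Nat.prime_three (by rw [hCq, hq]; norm_num)
  · push Not at ht
    obtain ⟨ht0, hchar⟩ := ht
    have hodd : Odd (Fintype.card F) := by
      rw [← Nat.not_even_iff_odd]
      exact fun he => hchar (ringChar.eq_iff.1 (FiniteField.even_card_iff_char_two.2 (Nat.even_iff.1 he)))
    have h2 := two_ne_zero_of_odd hodd
    have hg : Nat.gcd 2 (Fintype.card F - 1) = 2 := by
      obtain ⟨k, hk⟩ := hodd
      exact Nat.gcd_eq_left ⟨k, by omega⟩
    have hCc : Nat.card ↥C = Nat.card ↥cs := by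
      have h := card_comap_prj C
      rw [card_comap_cent_of_trace_eq h2 hs ht0, hg] at h
      exact (Nat.eq_of_mul_eq_mul_left two_pos h).symm
    have hx2 : prj s * prj s = 1 := by
      rw [← map_mul, sq_eq_neg_one ht0, prj_eq_one_iff]
      exact Or.inr rfl
    have main : IsCyclic ↥cs ∧ IsPGroup 2 ↥C := by
      haveI : Fact (Nat.Prime 2) := ⟨Nat.prime_two⟩
      rcases kinds hs with ⟨hi, hc⟩ | ⟨⟨r, r', hrr, htr, hr⟩, hc⟩ | ⟨⟨r, hr, htr⟩, -⟩
      · refine ⟨irred_cyclic p hs hi, ?_⟩
        have h4 : Fintype.card F % 4 = 3 := by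
          by_contra h
          obtain ⟨i, hi'⟩ := FiniteField.isSquare_neg_one_iff.2 h
          refine hi i ?_
          rw [ht0, ← hi']; ring
        obtain ⟨k, hk⟩ := h3 h4
        exact IsPGroup.of_card (n := k) (by rw [hCc, hc, hk])
      · refine ⟨isCyclic_cent (p := p) hs hc, ?_⟩
        have hsq : IsSquare (-1 : F) := ⟨r, by
          have : r' = -r := by rw [ht0] at htr; linear_combination -htr
          rw [this] at hr; linear_combination hr.symm⟩
        have h4 := FiniteField.isSquare_neg_one_iff.1 hsq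
        obtain ⟨k, hk⟩ := h1 (by obtain ⟨j, hj⟩ := hodd; omega)
        exact IsPGroup.of_card (n := k) (by rw [hCc, hc, hk])
      · exfalso
        rw [ht0] at htr
        have : r = 0 := (mul_eq_zero.1 (show (2 : F) * r = 0 by linear_combination -htr)).resolve_left h2
        rw [this, mul_zero] at hr
        exact zero_ne_one hr
    haveI := main.1
    haveI : IsCyclic ↥(cs.map prj) := isCyclic_of_surjective _ (prj.subgroupMap_surjective cs)
    have hmapC : cs.map prj ≤ C := Subgroup.map_le_iff_le_comap.2 hle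
    have hrel : (cs.map prj).relIndex C ≤ 2 ∧ (cs.map prj).relIndex C ≠ 0 := by
      refine ⟨?_, Subgroup.index_ne_zero_of_finite⟩
      have h := Subgroup.card_mul_index ((cs.map prj).subgroupOf C)
      rw [Nat.card_congr (Subgroup.subgroupOfEquivOfLe hmapC).toEquiv, hCc] at h
      have hle2 : Nat.card ↥cs ≤ 2 * Nat.card ↥(cs.map prj) := by
        have h' := card_comap_prj (cs.map prj)
        rw [hg] at h'
        exact h' ▸ Subgroup.card_le_of_le (Subgroup.le_comap_map _ _)
      show ((cs.map prj).subgroupOf C).index ≤ 2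
      have hpos : 0 < Nat.card ↥(cs.map prj) := Nat.card_pos
      nlinarith
    exact mem_of_index_two C _ H hmapC hrel.1 hrel.2 main.2 hxcs hx1 hx2 hH hnc

/-- Involution centralizers which are `2`-groups force `q ± 1` to be a power of two. -/
theorem psl_two_power (hodd : Odd (Fintype.card F))
    (h : ∀ y : X, orderOf y = 2 → IsPGroup 2 ↥(Subgroup.centralizer ({y} : Set X))) :
    ∃ k, Fintype.card F = 2 ^ k + 1 ∨ Fintype.card F + 1 = 2 ^ k := by
  haveI : Fact (Nat.Prime 2) := ⟨Nat.prime_two⟩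
  have hq := Fintype.one_lt_card (α := F)
  have key : ∀ N : ℕ, 4 ∣ N → 0 < N → (∃ s : SL(2, F), orderOf s = N) → ∃ k, N = 2 ^ (k + 1) := by
    rintro N ⟨m, rfl⟩ hN ⟨s, hs⟩
    have hg : Nat.gcd 2 (Fintype.card F - 1) = 2 := by
      obtain ⟨j, hj⟩ := hodd
      exact Nat.gcd_eq_left ⟨j, by omega⟩
    have ho : orderOf (prj s) = 2 * m := by
      rw [orderOf_prj, hg, orderOf_pow' s two_ne_zero, hs, show 4 * m = 2 * (2 * m) by ring,
        Nat.gcd_eq_right (dvd_mul_right 2 (2 * m)), Nat.mul_div_cancel_left _ two_pos]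
    have hy : orderOf (prj s ^ m) = 2 := by
      rw [orderOf_pow' _ (by omega), ho, Nat.gcd_eq_right (dvd_mul_left m 2), Nat.mul_div_cancel _ (by omega)]
    obtain ⟨k, hk⟩ := IsPGroup.iff_orderOf.1 (h _ hy)
      ⟨prj s, Subgroup.mem_centralizer_singleton_iff.2 ((Commute.refl (prj s)).pow_right m).eq⟩
    rw [Subgroup.orderOf_mk, ho] at hk
    exact ⟨k, by rw [pow_succ, ← hk]; ring⟩
  obtain ⟨j, hj⟩ := hodd
  rcases Nat.even_or_odd j with ⟨i, hi⟩ | ⟨i, hi⟩
  · obtain ⟨k, hk⟩ := key (Fintype.card F - 1) ⟨i, by omega⟩ (by omega) exists_orderOf_sub_one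
    exact ⟨k + 1, Or.inl (by omega)⟩
  · obtain ⟨k, hk⟩ := key (Fintype.card F + 1) ⟨i + 1, by omega⟩ (by omega) exists_orderOf_add_one
    exact ⟨k + 1, Or.inr hk⟩

theorem prime_or_nine {p f k : ℕ} (hp : p.Prime) (hp2 : p ≠ 2) (hf : f ≠ 0)
    (h : p ^ f = 2 ^ k + 1 ∨ p ^ f + 1 = 2 ^ k) : (p ^ f).Prime ∨ p ^ f = 9 := by
  have hpo : Odd p := hp.odd_of_ne_two hp2
  have hp3 : 3 ≤ p := by have := hp.two_le; omega
  rcases Nat.even_or_odd f with ⟨g, hg⟩ | hfo
  · right
    subst hg
    rw [← two_mul, mul_comm, pow_mul] at h ⊢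
    have hmo : Odd (p ^ g) := hpo.pow
    have hm3 : 3 ≤ p ^ g := hp3.trans (Nat.le_self_pow (by omega) p)
    obtain ⟨u, hu⟩ := hmo
    set m := p ^ g
    rcases h with h | h
    · have hfac : (m - 1) * (m + 1) = 2 ^ k := by
        have : m ^ 2 = (m - 1) * (m + 1) + 1 := by
          obtain ⟨v, hv⟩ : ∃ v, m = v + 1 := ⟨m - 1, by omega⟩
          rw [hv]; simp; ring
        omega
      obtain ⟨a, -, ha⟩ := (Nat.dvd_prime_pow Nat.prime_two).1 (Dvd.intro _ hfac)
      obtain ⟨b, -, hb⟩ := (Nat.dvd_prime_pow Nat.prime_two).1 (Dvd.intro_left _ hfac)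
      have hab : 2 ^ b = 2 ^ a + 2 := by omega
      rcases Nat.lt_or_ge a 2 with ha2 | ha2
      · interval_cases a
        · omega
        · have : m = 3 := by omega
          rw [this]; norm_num
      · exfalso
        obtain ⟨c, rfl⟩ : ∃ c, a = c + 2 := ⟨a - 2, by omega⟩
        have h4 : 2 ^ b % 4 = 2 := by rw [hab, pow_add]; omega
        rcases Nat.lt_or_ge b 2 with hb2 | hb2
        · interval_cases b <;> omega
        · obtain ⟨d, rfl⟩ : ∃ d, b = d + 2 := ⟨b - 2, by omega⟩
          rw [pow_add] at h4; omega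
    · exfalso
      have h4 : 2 ^ k % 4 = 2 := by
        rw [← h, hu]; ring_nf; omega
      have h10 : 10 ≤ 2 ^ k := by
        rw [← h]; nlinarith
      rcases Nat.lt_or_ge k 2 with hk | hk
      · interval_cases k <;> omega
      · obtain ⟨d, rfl⟩ : ∃ d, k = d + 2 := ⟨k - 2, by omega⟩
        rw [pow_add] at h4; omega
  · left
    suffices hf1 : f = 1 by rw [hf1, pow_one]; exact hp
    have key : ∀ x : ℤ, Odd x → x ≠ 1 → (x ^ f - 1).natAbs = 2 ^ k → x ^ f - 1 = x - 1 ∨ x ^ f - 1 = -(x - 1) := by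
      intro x hx _ hxk
      have hS : Odd (∑ i ∈ Finset.range f, x ^ i) := by
        have hmod : ∀ n : ℕ, Odd (∑ i ∈ Finset.range n, x ^ i) ↔ Odd n := by
          intro n
          induction n with
          | zero => simp
          | succ n ih =>
            rw [Finset.sum_range_succ, Int.odd_add, ih, Nat.odd_add_one]
            simp [hx.pow, ← Int.not_odd_iff_even]
        exact (hmod f).2 hfo
      have hmul := geom_sum_mul x f
      have hd : (∑ i ∈ Finset.range f, x ^ i).natAbs ∣ 2 ^ k := by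
        rw [← hxk, ← hmul, Int.natAbs_mul]; exact dvd_mul_right _ _
      have h1 : (∑ i ∈ Finset.range f, x ^ i).natAbs = 1 := by
        obtain ⟨a, -, ha⟩ := (Nat.dvd_prime_pow Nat.prime_two).1 hd
        have ho : Odd (∑ i ∈ Finset.range f, x ^ i).natAbs := Int.natAbs_odd.2 hS
        rw [ha] at ho ⊢
        rcases a with _ | a
        · rfl
        · exact absurd ho (Nat.not_odd_iff_even.2 ((Nat.even_pow' (by omega)).2 even_two))
      rcases Int.natAbs_eq (∑ i ∈ Finset.range f, x ^ i) with e | e <;> rw [h1] at e <;> rw [← hmul, e]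
      · left; simp
      · right; simp
    have hpe : ∀ e : ℕ, p ^ e = p → e = 1 := fun e he => by
      have : p ^ e = p ^ 1 := by rw [he, pow_one]
      exact Nat.pow_right_injective hp.two_le this
    rcases h with h | h
    · have h' : ((p : ℤ) ^ f - 1).natAbs = 2 ^ k := by
        have : ((p : ℤ) ^ f - 1) = ((2 ^ k : ℕ) : ℤ) := by
          have : (p : ℤ) ^ f = ((2 ^ k : ℕ) : ℤ) + 1 := by exact_mod_cast h
          rw [this]; ring
        rw [this, Int.natAbs_natCast]
      have hge : (1 : ℤ) ≤ (p : ℤ) ^ f := one_le_pow₀ (by exact_mod_cast hp.pos)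
      rcases key p (by exact_mod_cast hpo) (by omega) h' with e | e
      · exact hpe f (by exact_mod_cast (show (p : ℤ) ^ f = (p : ℤ) by linarith))
      · exfalso; omega
    · have hneg : (-(p : ℤ)) ^ f = -((p : ℤ) ^ f) := hfo.neg_pow _
      have h' : ((-(p : ℤ)) ^ f - 1).natAbs = 2 ^ k := by
        have : (-(p : ℤ)) ^ f - 1 = -((2 ^ k : ℕ) : ℤ) := by
          have : (p : ℤ) ^ f + 1 = ((2 ^ k : ℕ) : ℤ) := by exact_mod_cast h
          rw [hneg, ← this]; ring
        rw [this, Int.natAbs_neg, Int.natAbs_natCast]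
      have hge : (1 : ℤ) ≤ (p : ℤ) ^ f := one_le_pow₀ (by exact_mod_cast hp.pos)
      rcases key (-(p : ℤ)) (by exact_mod_cast (show Odd (p : ℤ) by exact_mod_cast hpo).neg) (by omega) h' with e | e
      · exact hpe f (by exact_mod_cast (show (p : ℤ) ^ f = (p : ℤ) by rw [hneg] at e; linarith))
      · exfalso; rw [hneg] at e; omega

end Cfsg.Lib.SelfCentNC
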