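import Cfsg.Agent.SelfCentNC.TwoGroup
import Cfsg.Agent.Quadratic.BaerSuzuki
import Cfsg.Agent.Transfer.ThompsonTransfer
import Cfsg.Agent.Transfer.Fusion
import Cfsg.Agent.Frobenius.UniqueSubgroup
import Cfsg.Agent.S0201
import Cfsg.Agent.S0205
import Cfsg.Agent.S3282
import Cfsg.Agent.PSLOrderSpec.Action
import Cfsg.Agent.Chars.Burnside

/-!
Simple groups with self-centralizing non-cyclic subgroups: involution centralizers and identification.
-/

set_option autoImplicit false
set_option linter.unusedSectionVars false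
set_option linter.style.haveILetI false

open Subgroup

namespace Cfsg.Lib.SelfCentNC

variable {G : Type*} [Group G]

theorem comm_subsingleton_false [IsSimpleGroup G] (hna : ¬ IsMulCommutative G) (h : center G = ⊤) : False :=
  hna ⟨⟨fun a b => (mem_center_iff.1 (h.symm ▸ mem_top b : b ∈ center G) a)⟩⟩

theorem center_eq_bot [IsSimpleGroup G] (hna : ¬ IsMulCommutative G) : center G = ⊥ :=
  (IsSimpleGroup.eq_bot_or_eq_top_of_normal (center G) inferInstance).resolve_right fun h =>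
    comm_subsingleton_false hna h

variable [Finite G]

theorem no_inverted (hP : HasProp G) {t s w : G} (ht : orderOf t = 2) (hts : Commute t s)
    (htw : Commute t w) (hs : orderOf s = 2) (hw : Odd (orderOf w)) (hw1 : w ≠ 1) (hinv : s * w * s⁻¹ = w⁻¹) :
    False := by
  have hnc : ¬ Commute s w := by
    intro h
    rw [h.eq, mul_inv_cancel_right] at hinv
    refine hw1 (orderOf_eq_one_iff.1 (Nat.eq_one_of_dvd_coprimes (Nat.coprime_two_right.2 hw) dvd_rfl
      (orderOf_dvd_of_pow_eq_one ?_)))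
    rw [pow_two]
    nth_rewrite 1 [hinv]
    exact inv_mul_cancel w
  have hn : zpowers s ≤ normalizer (zpowers w : Set G) := by
    rw [zpowers_le]
    refine mem_normalizer_iff.2 fun y => ⟨?_, ?_⟩
    · rintro ⟨i, rfl⟩
      exact ⟨-i, by show w ^ (-i) = s * w ^ i * s⁻¹; rw [← conj_zpow, hinv, inv_zpow, zpow_neg]⟩
    · rintro ⟨i, hi⟩
      refine ⟨-i, ?_⟩
      show w ^ (-i) = y
      have h1 : y = s⁻¹ * w ^ i * s := by
        rw [show w ^ i = s * y * s⁻¹ from hi]; group
      rw [h1, inv_eq_self hs]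
      nth_rewrite 2 [← inv_eq_self hs]
      rw [← conj_zpow, hinv, inv_zpow, zpow_neg]
  set H := zpowers w ⊔ zpowers s with hH
  have hwH : w ∈ H := mem_sup_left (mem_zpowers w)
  have hsH : s ∈ H := mem_sup_right (mem_zpowers s)
  have htH : t ∈ H := by
    refine hP H (fun hc => ?_) (mem_centralizer_iff.2 fun y hy => ?_)
    · haveI := hc
      letI : CommGroup ↥H := IsCyclic.commGroup
      exact hnc (congrArg Subtype.val (mul_comm (⟨s, hsH⟩ : ↥H) ⟨w, hwH⟩))
    · have hle : H ≤ centralizer {t} := sup_le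
        (zpowers_le.2 (mem_centralizer_singleton_iff.2 htw.eq.symm))
        (zpowers_le.2 (mem_centralizer_singleton_iff.2 hts.eq.symm))
      exact mem_centralizer_singleton_iff.1 (hle hy)
  rw [← SetLike.mem_coe, hH, Subgroup.coe_mul_of_right_le_normalizer_left _ _ hn] at htH
  obtain ⟨a, ⟨i, rfl⟩, b, ⟨j, rfl⟩, hab⟩ := htH
  simp only at hab
  have hsj : s ^ j = 1 ∨ s ^ j = s := by
    rcases Int.even_or_odd j with ⟨m, hm⟩ | ⟨m, hm⟩
    · left; rw [hm, zpow_add, ← (Commute.refl s).mul_zpow, sq_one hs, one_zpow]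
    · right; rw [hm, zpow_add_one, two_mul, zpow_add, ← (Commute.refl s).mul_zpow, sq_one hs, one_zpow, one_mul]
  rcases hsj with h | h <;> rw [h] at hab
  · rw [mul_one] at hab
    have h1 := orderOf_dvd_natCard (zpowers w) (show t ∈ zpowers w from ⟨i, hab⟩)
    rw [Nat.card_zpowers, ht] at h1
    obtain ⟨m, hm⟩ := hw
    omega
  · refine hnc ?_
    have h2 : s = (w ^ i)⁻¹ * t := by rw [← hab]; group
    rw [h2]
    exact (((Commute.refl w).zpow_left i).inv_left).mul_left htw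

theorem exists_normal_two (hP : HasProp G) {t : G} (ht : orderOf t = 2) {s : G} (hs : orderOf s = 2)
    (hsC : s ∈ centralizer ({t} : Set G)) :
    ∃ N : Subgroup ↥(centralizer ({t} : Set G)), N.Normal ∧ IsPGroup 2 N ∧ (⟨s, hsC⟩ : ↥(centralizer ({t} : Set G))) ∈ N := by
  haveI : Fact (Nat.Prime 2) := ⟨Nat.prime_two⟩
  set s' : ↥(centralizer ({t} : Set G)) := ⟨s, hsC⟩ with hs'
  have hs'2 : orderOf s' = 2 := by rw [hs', Subgroup.orderOf_mk, hs]
  obtain ⟨N, hN, hNp, hle⟩ := Cfsg.Lib.BaerSuzuki.baer_suzuki (p := 2) (zpowers s') (fun g => by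
    rw [MonoidHom.map_zpowers]
    show IsPGroup 2 ↥(zpowers s' ⊔ zpowers (g * s' * g⁻¹))
    set v := g * s' * g⁻¹ with hv
    have hv2 : orderOf v = 2 := by
      rw [hv, show g * s' * g⁻¹ = MulAut.conj g s' from rfl, MulEquiv.orderOf_eq, hs'2]
    obtain ⟨a, m, hm, ham⟩ := Nat.exists_eq_two_pow_mul_odd (orderOf_pos (s' * v)).ne'
    have hflip : s' * (s' * v) * s'⁻¹ = (s' * v)⁻¹ := by
      rw [mul_inv_rev, inv_eq_self hs'2, inv_eq_self hv2, ← mul_assoc, sq_one hs'2, one_mul]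
    have hm1 : m = 1 := by
      by_contra hne
      set w := (s' * v) ^ (2 ^ a) with hw
      have hwo : orderOf w = m := by
        rw [hw, orderOf_pow' _ (by positivity), ham, Nat.gcd_eq_right (dvd_mul_right _ _),
          Nat.mul_div_cancel_left _ (by positivity)]
      refine no_inverted hP ht (mem_centralizer_singleton_iff.1 hsC).symm
        (mem_centralizer_singleton_iff.1 w.2).symm hs (w := (w : G)) ?_ (fun e => hne ?_) ?_
      · rw [Subgroup.orderOf_coe, hwo]; exact hm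
      · rw [← hwo, ← Subgroup.orderOf_coe, e, orderOf_one]
      · have := congrArg Subtype.val (show s' * w * s'⁻¹ = w⁻¹ by rw [hw, ← conj_pow, hflip, inv_pow])
        simpa using this
    have hC : IsPGroup 2 ↥(zpowers (s' * v)) := IsPGroup.of_card (n := a) (by
      rw [Nat.card_zpowers, ham, hm1, mul_one])
    have hS : IsPGroup 2 ↥(zpowers s') := IsPGroup.of_card (n := 1) (by rw [Nat.card_zpowers, hs'2, pow_one])
    have hn : zpowers s' ≤ normalizer (zpowers (s' * v) : Set ↥(centralizer ({t} : Set G))) := by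
      rw [zpowers_le]
      have hflip' : ∀ i : ℤ, s' * (s' * v) ^ i * s'⁻¹ = (s' * v) ^ (-i) := fun i => by
        rw [← conj_zpow, hflip, inv_zpow, zpow_neg]
      refine mem_normalizer_iff.2 fun y => ⟨?_, ?_⟩
      · rintro ⟨i, rfl⟩
        exact ⟨-i, (hflip' i).symm⟩
      · rintro ⟨i, hi⟩
        refine ⟨-i, ?_⟩
        show (s' * v) ^ (-i) = y
        rw [← hflip' i, show (s' * v) ^ i = s' * y * s'⁻¹ from hi,
          show s' * (s' * y * s'⁻¹) * s'⁻¹ = (s' * s') * y * (s' * s')⁻¹ by group, sq_one hs'2]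
        group
    refine (IsPGroup.to_sup_of_normal_right' hS hC hn).to_le (sup_le le_sup_left ?_)
    rw [zpowers_le]
    have hmm := mul_mem (mem_sup_left (mem_zpowers s') : s' ∈ zpowers s' ⊔ zpowers (s' * v))
      (mem_sup_right (mem_zpowers (s' * v)))
    have e : s' * (s' * v) = v := (mul_assoc s' s' v).symm.trans (by rw [sq_one hs'2, one_mul])
    exact (congrArg (· ∈ zpowers s' ⊔ zpowers (s' * v)) e).mp hmm)
  exact ⟨N, hN, hNp, hle (mem_zpowers _)⟩

theorem card_even [IsSimpleGroup G] (hna : ¬ IsMulCommutative G) : 2 ∣ Nat.card G := by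
  by_contra h
  haveI := Cfsg.Agent.S0205.result (Nat.odd_iff.2 (Nat.two_dvd_ne_zero.1 h) : Odd (Nat.card G))
  exact hna ⟨⟨fun x y => IsSimpleGroup.comm_iff_isSolvable.2 ‹_› x y⟩⟩

theorem exists_two_involutions [IsSimpleGroup G] (hna : ¬ IsMulCommutative G) (S : Sylow 2 G) :
    ¬ ∀ x y : ↥(S : Subgroup G), orderOf x = 2 → orderOf y = 2 → y ∈ zpowers x := by
  intro huniq
  haveI : Fact (Nat.Prime 2) := ⟨Nat.prime_two⟩
  have hev := card_even hna
  have hSne := S.ne_bot_of_dvd_card hev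
  have hncyc : ¬ IsCyclic ↥(S : Subgroup G) := by
    intro hc
    have hmf : (Nat.card G).minFac = 2 := (Nat.minFac_eq_two_iff _).2 hev
    have hN := IsCyclic.normalizer_le_centralizer hmf hc
    have hK := MonoidHom.ker_transferSylow_isComplement' S hN
    rcases IsSimpleGroup.eq_bot_or_eq_top_of_normal _ (MonoidHom.normal_ker (MonoidHom.transferSylow S hN)) with e | e <;>
      rw [e] at hK
    · rw [Subgroup.isComplement'_bot_left] at hK
      haveI : IsCyclic G := isCyclic_of_surjective (S : Subgroup G).subtype (fun g => ⟨⟨g, hK.symm ▸ mem_top g⟩, rfl⟩)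
      letI : CommGroup G := IsCyclic.commGroup
      exact hna ⟨⟨fun a b => mul_comm a b⟩⟩
    · rw [Subgroup.isComplement'_top_left] at hK
      exact hSne hK
  rcases Cfsg.Lib.UniqueSub.isCyclic_or_quaternion (p := 2) S.2 huniq with h | ⟨-, n, ⟨e⟩⟩
  · exact hncyc h
  · rcases n with _ | n
    · haveI : IsCyclic (QuaternionGroup (2 ^ 0)) := QuaternionGroup.quaternionGroup_one_isCyclic
      exact hncyc (isCyclic_of_surjective e.symm e.symm.surjective)
    · have h2 := Cfsg.Agent.S0201.result S n e (fun N hN hodd => by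
        rcases IsSimpleGroup.eq_bot_or_eq_top_of_normal N hN with h | h
        · exact h
        · exfalso
          rw [h, Subgroup.card_top] at hodd
          exact Nat.not_even_iff_odd.2 hodd (even_iff_two_dvd.2 hev))
      rw [center_eq_bot hna, Subgroup.card_bot] at h2
      omega

theorem exists_second_involution [IsSimpleGroup G] (hna : ¬ IsMulCommutative G) {t : G} (ht : orderOf t = 2) :
    ∃ s, orderOf s = 2 ∧ Commute s t ∧ s ≠ t := by
  haveI : Fact (Nat.Prime 2) := ⟨Nat.prime_two⟩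
  obtain ⟨S, hS⟩ := IsPGroup.exists_le_sylow (IsPGroup.of_card (n := 1) (by rw [Nat.card_zpowers, ht, pow_one]) :
    IsPGroup 2 ↥(zpowers t))
  have htS : t ∈ (S : Subgroup G) := hS (mem_zpowers t)
  haveI : Nontrivial ↥(S : Subgroup G) := ⟨⟨⟨t, htS⟩, 1, fun e => ne_one_of_two ht (congrArg Subtype.val e)⟩⟩
  haveI := S.2.center_nontrivial
  obtain ⟨z, hz⟩ := exists_prime_orderOf_dvd_card' (G := ↥(center ↥(S : Subgroup G))) 2 (by
    obtain ⟨n, hn⟩ := IsPGroup.iff_card.1 (S.2.to_subgroup (center ↥(S : Subgroup G)))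
    have := Finite.one_lt_card (α := ↥(center ↥(S : Subgroup G)))
    rcases n with _ | n
    · omega
    · rw [hn]; exact dvd_pow_self 2 (by omega))
  have hz2 : orderOf ((z : ↥(S : Subgroup G)) : G) = 2 := by rw [Subgroup.orderOf_coe, Subgroup.orderOf_coe, hz]
  have hzc : ∀ w : ↥(S : Subgroup G), Commute (w : G) ((z : ↥(S : Subgroup G)) : G) := fun w =>
    congrArg Subtype.val (mem_center_iff.1 z.2 w)
  by_cases hzt : ((z : ↥(S : Subgroup G)) : G) = t
  · by_contra hno
    push Not at hno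
    refine exists_two_involutions hna S (fun x y hx hy => ?_)
    have e : ∀ u : ↥(S : Subgroup G), orderOf u = 2 → (u : G) = t := fun u hu =>
      hno _ (by rw [Subgroup.orderOf_coe, hu]) (hzt ▸ hzc u)
    rw [show y = x from Subtype.ext ((e y hy).trans (e x hx).symm)]
    exact mem_zpowers x
  · exact ⟨_, hz2, (hzc ⟨t, htS⟩).symm, hzt⟩

theorem cent_two_group [IsSimpleGroup G] (hna : ¬ IsMulCommutative G) (hP : HasProp G) {t : G} (ht : orderOf t = 2) :
    IsPGroup 2 ↥(centralizer ({t} : Set G)) := by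
  haveI : Fact (Nat.Prime 2) := ⟨Nat.prime_two⟩
  obtain ⟨s, hs, hst, hne⟩ := exists_second_involution hna ht
  set C := centralizer ({t} : Set G) with hC
  have htC : t ∈ C := mem_centralizer_singleton_iff.2 rfl
  have hsC : s ∈ C := mem_centralizer_singleton_iff.2 hst.eq
  obtain ⟨N₁, hN₁, hp₁, hm₁⟩ := exists_normal_two hP ht ht htC
  obtain ⟨N₂, hN₂, hp₂, hm₂⟩ := exists_normal_two hP ht hs hsC
  haveI := hN₁
  haveI := hN₂
  set W : Subgroup G := (N₁ ⊔ N₂).map C.subtype with hW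
  have hWp : IsPGroup 2 ↥W := (hp₁.to_sup_of_normal_right hp₂).map C.subtype
  have htW : t ∈ W := ⟨_, mem_sup_left hm₁, rfl⟩
  have hsW : s ∈ W := ⟨_, mem_sup_right hm₂, rfl⟩
  have htc : ∀ w ∈ W, Commute w t := by
    rintro _ ⟨w, -, rfl⟩
    exact mem_centralizer_singleton_iff.1 w.2
  obtain ⟨r, k, S⟩ := exists_shape hP W hWp ht hs hne htW hsW htc
  rw [IsPGroup.iff_orderOf]
  intro x
  obtain ⟨a, m, hm, ham⟩ := Nat.exists_eq_two_pow_mul_odd (orderOf_pos x).ne'
  refine ⟨a, ?_⟩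
  set y := x ^ (2 ^ a) with hy
  have hyo : orderOf y = m := by
    rw [hy, orderOf_pow' _ (by positivity), ham, Nat.gcd_eq_right (dvd_mul_right _ _),
      Nat.mul_div_cancel_left _ (by positivity)]
  have hy1 : (y : G) = 1 := odd_normalizing_trivial hP S ht hs hne hst.symm hsW
    (by rw [Subgroup.orderOf_coe, hyo]; exact hm) (mem_centralizer_singleton_iff.1 y.2) (by
      rintro _ ⟨w, hw, rfl⟩
      exact ⟨y * w * y⁻¹, Subgroup.Normal.conj_mem inferInstance w hw y, by simp⟩)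
  rw [← Subgroup.orderOf_coe, hy1, orderOf_one] at hyo
  rw [ham, ← hyo, mul_one]

theorem not_semidihedral [IsSimpleGroup G] (hna : ¬ IsMulCommutative G) (S : Sylow 2 G) {z s r : G} {k : ℕ}
    (hz : orderOf z = 2) (hs : orderOf s = 2) (hsW : s ∈ (S : Subgroup G))
    (hCz : centralizer ({z} : Set G) = (S : Subgroup G)) (sh : Shape (S : Subgroup G) z s r k)
    (hk3 : 3 ≤ k) (hact : s * r * s⁻¹ = r ^ (2 ^ (k - 1) - 1)) : False := by
  haveI : Fact (Nat.Prime 2) := ⟨Nat.prime_two⟩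
  have e1 : r * r ^ (2 ^ (k - 1) - 1) = z := by
    rw [← pow_succ', Nat.sub_add_cancel Nat.one_le_two_pow, sh.t_eq]
  have hzpow : ∀ x : G, ∀ i : ℤ, x = r ^ i * s → x * x = z ^ i := by
    rintro x i rfl
    rw [show r ^ i * s * (r ^ i * s) = r ^ i * (s * r * s⁻¹) ^ i by rw [conj_zpow, inv_eq_self hs]; group,
      hact, ← ((Commute.refl r).pow_right _).mul_zpow, e1]
  have hzev : ∀ i : ℤ, z ^ i = 1 ↔ Even i := fun i => by
    rw [← orderOf_dvd_iff_zpow_eq_one, hz]; exact even_iff_two_dvd.symm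
  -- the index two subgroup containing all involutions
  set M : Subgroup G := zpowers (r ^ 2) ⊔ zpowers s with hM
  have hn : zpowers s ≤ normalizer (zpowers (r ^ 2) : Set G) := by
    rw [zpowers_le]
    have hsr : s * r ^ 2 * s⁻¹ ∈ zpowers (r ^ 2) := by
      rw [← conj_pow, hact, ← pow_mul, mul_comm, pow_mul]
      exact pow_mem (mem_zpowers _) _
    refine mem_normalizer_iff.2 fun y => ⟨?_, ?_⟩
    · rintro ⟨i, rfl⟩
      show s * (r ^ 2) ^ i * s⁻¹ ∈ _
      rw [← conj_zpow]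
      exact zpow_mem hsr i
    · rintro ⟨i, hi⟩
      have : y = s * (r ^ 2) ^ i * s⁻¹ := by
        rw [show (r ^ 2) ^ i = s * y * s⁻¹ from hi,
          show s * (s * y * s⁻¹) * s⁻¹ = (s * s) * y * (s * s)⁻¹ by group, sq_one hs]
        group
      rw [this, ← conj_zpow]
      exact zpow_mem hsr i
  have hev : ∀ i : ℤ, Even i → r ^ i ∈ M := by
    rintro i ⟨m, rfl⟩
    refine mem_sup_left ⟨m, ?_⟩
    show (r ^ 2) ^ m = _
    rw [← zpow_natCast, ← zpow_mul]
    congr 1
    ring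
  have hMS : M ≤ (S : Subgroup G) := sup_le (zpowers_le.2 (pow_mem sh.mem 2)) (zpowers_le.2 hsW)
  have hrM : r ∉ M := by
    intro h
    rw [← SetLike.mem_coe, hM, Subgroup.coe_mul_of_right_le_normalizer_left _ _ hn] at h
    obtain ⟨a, ⟨i, rfl⟩, b, ⟨j, rfl⟩, hab⟩ := h
    simp only at hab
    by_cases hj : s ^ j = 1
    · rw [hj, mul_one] at hab
      have h1 : r ^ (2 * i - 1) = 1 := by
        rw [zpow_sub_one, zpow_mul]
        norm_cast
        rw [hab, mul_inv_cancel]
      have h2 := orderOf_dvd_iff_zpow_eq_one.2 h1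
      rw [sh.ord] at h2
      have h4 : (2 : ℤ) ∣ 2 * i - 1 := (Dvd.intro _ (by rw [← pow_succ']; congr 1; omega : 2 * 2 ^ (k - 1) = 2 ^ k) :
        (2 : ℕ) ∣ 2 ^ k) |> Int.natCast_dvd_natCast.2 |>.trans h2
      omega
    · have hj' : s ^ j = s := by
        rcases Int.even_or_odd j with ⟨m, hm⟩ | ⟨m, hm⟩
        · exact absurd (by rw [hm, zpow_add, ← (Commute.refl s).mul_zpow, sq_one hs, one_zpow]) hj
        · rw [hm, zpow_add_one, two_mul, zpow_add, ← (Commute.refl s).mul_zpow, sq_one hs, one_zpow, one_mul]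
      rw [hj'] at hab
      refine sh.not_mem ?_
      have h' : s = ((r ^ 2) ^ i)⁻¹ * r := eq_inv_mul_of_mul_eq hab
      rw [h']
      exact mul_mem (inv_mem (zpow_mem (pow_mem (mem_zpowers r) 2) i)) (mem_zpowers r)
  have hfoc : focalSubgroup (S : Subgroup G) ≤ M := by
    rw [focalSubgroup_def, closure_le]
    rintro _ ⟨hmem, x, hx, u, rfl⟩
    rw [commutatorElement_def] at hmem ⊢
    have hc : u * x⁻¹ * u⁻¹ ∈ (S : Subgroup G) := by simpa [mul_assoc] using mul_mem (inv_mem hx) hmem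
    by_cases hx2 : x * x = 1
    · have key : ∀ y ∈ (S : Subgroup G), y * y = 1 → y ∈ M := by
        intro y hy hy2
        obtain ⟨i, hi | hi⟩ := sh.cases y hy
        · subst hi
          refine hev i ?_
          rw [← zpow_add, ← orderOf_dvd_iff_zpow_eq_one, sh.ord] at hy2
          obtain ⟨c, hc⟩ := hy2
          obtain ⟨j, rfl⟩ : ∃ j, k = j + 2 := ⟨k - 2, by omega⟩
          push_cast [pow_add] at hc
          exact ⟨2 ^ j * c, by linarith⟩
        · have he := (hzev i).1 ((hzpow y i hi).symm.trans hy2)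
          subst hi
          exact mul_mem (hev i he) (mem_sup_right (mem_zpowers s))
      have e : x * u * x⁻¹ * u⁻¹ = x * (u * x⁻¹ * u⁻¹) := by group
      rw [e]
      refine mul_mem (key x hx hx2) (key _ hc ?_)
      rw [show u * x⁻¹ * u⁻¹ * (u * x⁻¹ * u⁻¹) = u * (x * x)⁻¹ * u⁻¹ by group, hx2]
      group
    · -- such elements fix the central involution
      have hpow : ∀ y ∈ (S : Subgroup G), y * y ≠ 1 → ∃ n : ℕ, y ^ n = z := by
        intro y hy hy2
        obtain ⟨n, hn⟩ := IsPGroup.iff_orderOf.1 S.2 ⟨y, hy⟩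
        rw [Subgroup.orderOf_mk] at hn
        have hn2 : 2 ≤ n := by
          by_contra h
          refine hy2 ?_
          rw [← pow_two, ← orderOf_dvd_iff_pow_eq_one, hn]
          exact (pow_dvd_pow 2 (show n ≤ 1 by omega)).trans (by norm_num)
        refine ⟨2 ^ (n - 1), ?_⟩
        obtain ⟨i, hi | hi⟩ := sh.cases y hy
        · have ho : orderOf (y ^ (2 ^ (n - 1))) = 2 := by
            rw [orderOf_pow' _ (by positivity), hn, Nat.gcd_eq_right (pow_dvd_pow 2 (by omega)),
              Nat.pow_div (by omega) two_pos, show n - (n - 1) = 1 by omega, pow_one]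
          exact eq_of_sq_one_cyclic (zpowers r) (hi ▸ pow_mem (zpow_mem (mem_zpowers r) i) _)
            (sh.t_eq ▸ pow_mem (mem_zpowers r) _) (ne_one_of_two ho) (ne_one_of_two hz) (sq_one ho) (sq_one hz)
        · have h1 := hzpow y i hi
          have ho : ¬ Even i := fun h => hy2 (h1.trans ((hzev i).2 h))
          have hz' : z ^ i = z := by
            obtain ⟨m, hm⟩ := Int.not_even_iff_odd.1 ho
            rw [hm, zpow_add_one, two_mul, zpow_add, ← (Commute.refl z).mul_zpow, sq_one hz, one_zpow, one_mul]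
          have h4 : y ^ 4 = 1 := by
            rw [show (4 : ℕ) = 2 * 2 from rfl, pow_mul, pow_two y, h1, hz', pow_two, sq_one hz]
          have h5 := orderOf_dvd_of_pow_eq_one h4
          rw [hn, show (4 : ℕ) = 2 ^ 2 from rfl, Nat.pow_dvd_pow_iff_le_right (by norm_num)] at h5
          rw [show n - 1 = 1 by omega, pow_one, pow_two, h1, hz']
      have huS : u ∈ (S : Subgroup G) := by
        have hx2' : x⁻¹ * x⁻¹ ≠ 1 := fun h => hx2 (by rwa [← mul_inv_rev, inv_eq_one] at h)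
        have hy2 : (u * x⁻¹ * u⁻¹) * (u * x⁻¹ * u⁻¹) ≠ 1 := fun h => hx2' (by
          rw [show u * x⁻¹ * u⁻¹ * (u * x⁻¹ * u⁻¹) = u * (x⁻¹ * x⁻¹) * u⁻¹ by group] at h
          exact conj_eq_one_iff.1 h)
        obtain ⟨n, hn⟩ := hpow x⁻¹ (inv_mem hx) hx2'
        obtain ⟨m, hm⟩ := hpow _ hc hy2
        rw [← hCz, mem_centralizer_singleton_iff, ← mul_inv_eq_iff_eq_mul]
        have h3 : u * z * u⁻¹ = (u * x⁻¹ * u⁻¹) ^ n := by rw [conj_pow, hn]
        have hzo : orderOf (u * z * u⁻¹) = 2 := by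
          rw [show u * z * u⁻¹ = MulAut.conj u z from rfl, MulEquiv.orderOf_eq, hz]
        exact eq_of_sq_one_cyclic (zpowers (u * x⁻¹ * u⁻¹)) (h3 ▸ pow_mem (mem_zpowers _) n)
          (hm ▸ pow_mem (mem_zpowers _) m) (ne_one_of_two hzo) (ne_one_of_two hz) (sq_one hzo) (sq_one hz)
      obtain ⟨i, hi | hi⟩ := sh.cases x hx <;> obtain ⟨j, hj | hj⟩ := sh.cases u huS <;> subst hi hj
      · rw [show r ^ i * r ^ j * (r ^ i)⁻¹ * (r ^ j)⁻¹ = 1 by group]; exact one_mem _
      · rw [show r ^ i * (r ^ j * s) * (r ^ i)⁻¹ * (r ^ j * s)⁻¹ = r ^ i * (r ^ j * ((s * r * s⁻¹) ^ i)⁻¹ * (r ^ j)⁻¹) by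
          rw [conj_zpow]; group, hact, ← zpow_natCast r, ← zpow_mul, ← zpow_neg, ← zpow_neg, ← zpow_add, ← zpow_add, ← zpow_add]
        refine hev _ ?_
        obtain ⟨l, rfl⟩ : ∃ l, k = l + 2 := ⟨k - 2, by omega⟩
        rw [show l + 2 - 1 = l + 1 by omega, Nat.cast_sub Nat.one_le_two_pow]
        push_cast [pow_succ]
        exact ⟨i - 2 ^ l * i, by ring⟩
      · rw [show r ^ i * s * r ^ j * (r ^ i * s)⁻¹ * (r ^ j)⁻¹ = r ^ i * (s * r * s⁻¹) ^ j * (r ^ i)⁻¹ * (r ^ j)⁻¹ by
          rw [conj_zpow]; group, hact, ← zpow_natCast r, ← zpow_mul, ← zpow_neg, ← zpow_neg, ← zpow_add, ← zpow_add, ← zpow_add]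
        refine hev _ ?_
        obtain ⟨l, rfl⟩ : ∃ l, k = l + 2 := ⟨k - 2, by omega⟩
        rw [show l + 2 - 1 = l + 1 by omega, Nat.cast_sub Nat.one_le_two_pow]
        push_cast [pow_succ]
        exact ⟨2 ^ l * j - j, by ring⟩
      · rw [show r ^ i * s * (r ^ j * s) * (r ^ i * s)⁻¹ * (r ^ j * s)⁻¹ =
            r ^ i * (s * r * s⁻¹) ^ j * ((s * r * s⁻¹) ^ i)⁻¹ * (r ^ j)⁻¹ by
          rw [conj_zpow, conj_zpow]; group, hact, ← zpow_natCast r, ← zpow_mul, ← zpow_mul, ← zpow_neg, ← zpow_neg,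
          ← zpow_add, ← zpow_add, ← zpow_add]
        refine hev _ ?_
        obtain ⟨l, rfl⟩ : ∃ l, k = l + 2 := ⟨k - 2, by omega⟩
        rw [show l + 2 - 1 = l + 1 by omega, Nat.cast_sub Nat.one_le_two_pow]
        push_cast [pow_succ]
        exact ⟨2 ^ l * j - 2 ^ l * i + i - j, by ring⟩
  have hcop : ((S : Subgroup G).index).Coprime (M.relIndex (S : Subgroup G)) := by
    refine Nat.Coprime.coprime_dvd_right (Subgroup.relIndex_dvd_card M (S : Subgroup G)) ?_
    obtain ⟨n, hn⟩ := IsPGroup.iff_card.1 S.2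
    rw [hn]
    exact Nat.Coprime.pow_right n (Nat.coprime_comm.1 ((Nat.prime_two.coprime_iff_not_dvd).2 S.not_dvd_index))
  obtain ⟨N, hN, hinf, -, hcomm, -⟩ := Cfsg.Lib.Transfer.exists_normal_inf_eq (S : Subgroup G) M hMS hfoc hcop
  have hNtop : N = ⊤ := by
    have hperf : commutator G = ⊤ :=
      (IsSimpleGroup.eq_bot_or_eq_top_of_normal _ inferInstance).resolve_left fun h =>
        hna ⟨⟨fun a b => commutatorElement_eq_one_iff_mul_comm.1 (by
          rw [← Subgroup.mem_bot, ← h]; exact Subgroup.commutator_mem_commutator (mem_top a) (mem_top b))⟩⟩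
    exact top_le_iff.1 (hperf ▸ hcomm)
  exact hrM (hinf ▸ (Subgroup.mem_inf.2 ⟨hNtop ▸ mem_top r, sh.mem⟩))

/-- The structure theorem. -/
theorem exists_psl [IsSimpleGroup G] (hna : ¬ IsMulCommutative G) (hP : HasProp G) :
    ∃ (F : Type) (_ : Field F) (_ : Fintype F), Odd (Fintype.card F) ∧
      Nonempty (G ≃* Matrix.ProjectiveSpecialLinearGroup (Fin 2) F) := by
  haveI : Fact (Nat.Prime 2) := ⟨Nat.prime_two⟩
  have hev := card_even hna
  obtain ⟨S⟩ : Nonempty (Sylow 2 G) := inferInstance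
  haveI : Nontrivial ↥(S : Subgroup G) := (Subgroup.nontrivial_iff_ne_bot _).2 (S.ne_bot_of_dvd_card hev)
  haveI := S.2.center_nontrivial
  obtain ⟨z, hz⟩ := exists_prime_orderOf_dvd_card' (G := ↥(center ↥(S : Subgroup G))) 2 (by
    obtain ⟨n, hn⟩ := IsPGroup.iff_card.1 (S.2.to_subgroup (center ↥(S : Subgroup G)))
    have := Finite.one_lt_card (α := ↥(center ↥(S : Subgroup G)))
    rcases n with _ | n
    · omega
    · rw [hn]; exact dvd_pow_self 2 (by omega))
  obtain ⟨t, rfl⟩ : ∃ t : G, ((z : ↥(S : Subgroup G)) : G) = t := ⟨_, rfl⟩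
  set t : G := ((z : ↥(S : Subgroup G)) : G) with htdef
  have ht : orderOf t = 2 := by rw [htdef, Subgroup.orderOf_coe, Subgroup.orderOf_coe, hz]
  have htS : t ∈ (S : Subgroup G) := (z : ↥(S : Subgroup G)).2
  have htc : ∀ w ∈ (S : Subgroup G), Commute w t := fun w hw => congrArg Subtype.val (mem_center_iff.1 z.2 ⟨w, hw⟩)
  have hCz : centralizer ({t} : Set G) = (S : Subgroup G) :=
    S.is_maximal' (cent_two_group hna hP ht) fun w hw => mem_centralizer_singleton_iff.2 (htc w hw).eq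
  obtain ⟨s, hs, hst, hne⟩ := exists_second_involution hna ht
  have hsS : s ∈ (S : Subgroup G) := hCz ▸ mem_centralizer_singleton_iff.2 hst.eq
  obtain ⟨r, k, sh⟩ := exists_shape hP (S : Subgroup G) S.2 ht hs hne htS hsS htc
  have hact : s * r * s⁻¹ = r⁻¹ := by
    rcases sh.act with h | ⟨hk3, h⟩
    · exact h
    · exact (not_semidihedral hna S ht hs hsS hCz sh hk3 h).elim
  have hinv : ∀ x ∈ zpowers r, s * x * s⁻¹ = x⁻¹ := by
    rintro _ ⟨i, rfl⟩
    show s * r ^ i * s⁻¹ = (r ^ i)⁻¹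
    rw [← conj_zpow, hact, inv_zpow]
  have hKle : zpowers r ≤ centralizer ({t} : Set G) := hCz.symm ▸ zpowers_le.2 sh.mem
  have htK : t ∈ zpowers r := sh.t_eq ▸ pow_mem (mem_zpowers r) _
  -- all involutions are conjugate
  have hone : ∀ x : G, orderOf x = 2 → IsConj x t := by
    intro x hx
    obtain ⟨Q, hQ⟩ := IsPGroup.exists_le_sylow (IsPGroup.of_card (n := 1) (by rw [Nat.card_zpowers, hx, pow_one]) :
      IsPGroup 2 ↥(zpowers x))
    obtain ⟨g, hg⟩ := MulAction.exists_smul_eq G Q S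
    have hgx : g * x * g⁻¹ ∈ (S : Subgroup G) := by
      rw [← hg, Sylow.coe_subgroup_smul]
      exact ⟨x, hQ (mem_zpowers x), rfl⟩
    have hgo : orderOf (g * x * g⁻¹) = 2 := by
      rw [show g * x * g⁻¹ = MulAut.conj g x from rfl, MulEquiv.orderOf_eq, hx]
    refine (isConj_iff.2 ⟨g, rfl⟩ : IsConj x (g * x * g⁻¹)).trans ?_
    set y := g * x * g⁻¹ with hy
    by_cases hyR : y ∈ zpowers r
    · rw [eq_of_sq_one_cyclic (zpowers r) hyR htK (ne_one_of_two hgo) (ne_one_of_two ht) (sq_one hgo) (sq_one ht)]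
    have hidx : (zpowers r).index = 2 * (S : Subgroup G).index := by
      have h1 := (S : Subgroup G).card_mul_index
      have h2 := (zpowers r).card_mul_index
      rw [Nat.card_zpowers, sh.ord, ← h1, sh.card, pow_succ] at h2
      exact Nat.eq_of_mul_eq_mul_left (pow_pos two_pos k) (by rw [h2]; ring)
    by_contra hno
    obtain ⟨M, hM, hMi, -⟩ := Cfsg.Lib.Transfer.exists_index_two_not_mem (zpowers r)
      (Nat.odd_iff.2 (Nat.two_dvd_ne_zero.1 S.not_dvd_index)) hidx hgo fun h hh => hno (by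
        have hho : orderOf (h⁻¹ * y * h) = 2 := by
          rw [show h⁻¹ * y * h = MulAut.conj h⁻¹ y by simp, MulEquiv.orderOf_eq, hgo]
        rw [← eq_of_sq_one_cyclic (zpowers r) hh htK (ne_one_of_two hho) (ne_one_of_two ht) (sq_one hho) (sq_one ht)]
        exact isConj_iff.2 ⟨h⁻¹, by group⟩)
    haveI := hM
    rcases IsSimpleGroup.eq_bot_or_eq_top_of_normal M hM with e | e <;> rw [e] at hMi
    · rw [Subgroup.index_bot] at hMi
      haveI := isCyclic_of_prime_card hMi
      letI : CommGroup G := IsCyclic.commGroup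
      exact hna ⟨⟨fun a b => mul_comm a b⟩⟩
    · rw [Subgroup.index_top] at hMi; omega
  have hH : zpowers r ⊔ zpowers s = centralizer ({t} : Set G) := by
    rw [hCz]
    refine le_antisymm (sup_le (zpowers_le.2 sh.mem) (zpowers_le.2 hsS)) fun w hw => ?_
    obtain ⟨i, rfl | rfl⟩ := sh.cases w hw
    · exact mem_sup_left ⟨i, rfl⟩
    · exact mul_mem (mem_sup_left ⟨i, rfl⟩) (mem_sup_right (mem_zpowers s))
  have hCK : zpowers r ⊓ centralizer ({s} : Set G) = zpowers t := by
    refine le_antisymm ?_ (zpowers_le.2 ⟨htK, mem_centralizer_singleton_iff.2 hst.eq.symm⟩)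
    rintro x ⟨hx, hxs⟩
    have h1 := hinv x hx
    rw [← mem_centralizer_singleton_iff.1 hxs, mul_inv_cancel_right] at h1
    by_cases hx1 : x = 1
    · exact hx1 ▸ one_mem _
    · rw [eq_of_sq_one_cyclic (zpowers r) hx htK hx1 (ne_one_of_two ht) (mul_eq_one_iff_eq_inv.2 h1) (sq_one ht)]
      exact mem_zpowers t
  have hTI : ∀ g : G, g ∉ centralizer ({t} : Set G) → zpowers r ⊓ (zpowers r).map (MulAut.conj g).toMonoidHom = ⊥ := by
    intro g hg
    by_contra hne'
    haveI : Nontrivial ↥(zpowers r ⊓ (zpowers r).map (MulAut.conj g).toMonoidHom) :=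
      (Subgroup.nontrivial_iff_ne_bot _).2 hne'
    obtain ⟨y, hy⟩ := exists_prime_orderOf_dvd_card'
      (G := ↥(zpowers r ⊓ (zpowers r).map (MulAut.conj g).toMonoidHom)) 2 (by
        obtain ⟨n, hn⟩ := IsPGroup.iff_card.1 (S.2.to_le (inf_le_left.trans (zpowers_le.2 sh.mem)) :
          IsPGroup 2 ↥(zpowers r ⊓ (zpowers r).map (MulAut.conj g).toMonoidHom))
        have := Finite.one_lt_card (α := ↥(zpowers r ⊓ (zpowers r).map (MulAut.conj g).toMonoidHom))
        rcases n with _ | n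
        · omega
        · rw [hn]; exact dvd_pow_self 2 (by omega))
    have hyo : orderOf (y : G) = 2 := by rw [Subgroup.orderOf_coe, hy]
    have hyt : (y : G) = t :=
      eq_of_sq_one_cyclic (zpowers r) y.2.1 htK (ne_one_of_two hyo) (ne_one_of_two ht) (sq_one hyo) (sq_one ht)
    obtain ⟨v, hv, hve⟩ := y.2.2
    have hvo : orderOf v = 2 := by rw [← MulEquiv.orderOf_eq (MulAut.conj g) v]; exact (congrArg orderOf hve).trans hyo
    have hvt : v = t :=
      eq_of_sq_one_cyclic (zpowers r) hv htK (ne_one_of_two hvo) (ne_one_of_two ht) (sq_one hvo) (sq_one ht)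
    apply hg
    rw [mem_centralizer_singleton_iff, ← mul_inv_eq_iff_eq_mul]
    rw [hyt, hvt] at hve
    exact hve
  have hKab : IsMulCommutative ↥(zpowers r) := by
    letI : CommGroup ↥(zpowers r) := IsCyclic.commGroup
    exact ⟨⟨fun a b => mul_comm a b⟩⟩
  obtain ⟨Q, D, hcard, hC, -, hD, hQD, hN, hX⟩ := Cfsg.Agent.S3282.result t ht (zpowers r) hKab hKle htK s hs
    (hCz.symm ▸ hsS) sh.not_mem hH hCK hinv hTI (fun x y hx hy => (hone x hx).trans (hone y hy).symm)
  have hD1 : D ≠ ⊥ := by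
    intro e
    rw [e, Subgroup.card_bot] at hD
    rw [← hD] at hcard
    have hsol : Group.IsSolvable G := Cfsg.Lib.Chars.burnside_isSolvable 2 3 Nat.prime_two Nat.prime_three G
      ⟨2, 1, by norm_num at hcard ⊢; omega⟩
    exact hna ⟨⟨fun a b => IsSimpleGroup.comm_iff_isSolvable.2 hsol a b⟩⟩
  obtain ⟨F, i1, i2, hF, hiso⟩ := Cfsg.Lib.PSLOrderSpec.psl_of_concl Q D hcard hC hD hD1 hQD hN hX
  exact ⟨F, i1, i2, ⟨Nat.card ↥D, by rw [hF]; omega⟩, hiso⟩

end Cfsg.Lib.SelfCentNC
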