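import Cfsg.Agent.SelfCentNC.PSL
import Cfsg.Agent.S3919
import Cfsg.Agent.S0113
import Mathlib.FieldTheory.Finite.Basic

/-!
`2`-subgroups with a central involution and a self-centralizing four-group.
-/

set_option autoImplicit false
set_option linter.unusedSectionVars false
set_option linter.style.haveILetI false

open Subgroup

namespace Cfsg.Lib.SelfCentNC

variable {G : Type*} [Group G]

theorem inv_eq_self {s : G} (hs : orderOf s = 2) : s⁻¹ = s :=
  inv_eq_of_mul_eq_one_right (by rw [← pow_two, ← hs, pow_orderOf_eq_one])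

theorem sq_one {s : G} (hs : orderOf s = 2) : s * s = 1 := by
  rw [← pow_two, ← hs, pow_orderOf_eq_one]

theorem ne_one_of_two {s : G} (hs : orderOf s = 2) : s ≠ 1 := fun e => by
  rw [e, orderOf_one] at hs; omega

/-- The four-group generated by two commuting involutions. -/
def four (t s : G) (ht : t * t = 1) (hs : s * s = 1) (h : Commute t s) : Subgroup G where
  carrier := {1, t, s, t * s}
  one_mem' := by simp
  mul_mem' := by
    intro a b ha hb
    have h1 : t * (t * s) = s := by rw [← mul_assoc, ht, one_mul]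
    have h2 : t * s * t = s := by rw [h.eq, mul_assoc, ht, mul_one]
    have h3 : s * (t * s) = t := by rw [← mul_assoc, ← h.eq, mul_assoc, hs, mul_one]
    have h4 : t * s * s = t := by rw [mul_assoc, hs, mul_one]
    have h5 : t * s * (t * s) = 1 := by rw [← mul_assoc, h2, hs]
    simp only [Set.mem_insert_iff, Set.mem_singleton_iff] at ha hb ⊢
    rcases ha with rfl | rfl | rfl | rfl <;> rcases hb with rfl | rfl | rfl | rfl <;>
      simp [ht, hs, h1, h2, h3, h4, h5, h.eq.symm]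
  inv_mem' := by
    intro a ha
    simp only [Set.mem_insert_iff, Set.mem_singleton_iff] at ha ⊢
    rcases ha with rfl | rfl | rfl | rfl
    · simp
    · exact Or.inr (Or.inl (inv_eq_of_mul_eq_one_right ht))
    · exact Or.inr (Or.inr (Or.inl (inv_eq_of_mul_eq_one_right hs)))
    · refine Or.inr (Or.inr (Or.inr (inv_eq_of_mul_eq_one_right ?_)))
      rw [mul_assoc, ← mul_assoc s t s, ← h.eq, mul_assoc t s s, hs, mul_one, ht]

variable [Finite G]

theorem four_not_cyclic {t s : G} (ht : orderOf t = 2) (hs : orderOf s = 2) (h : Commute t s) (hne : s ≠ t) :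
    ¬ IsCyclic ↥(four t s (sq_one ht) (sq_one hs) h) := by
  intro hc
  haveI := hc
  exact hne (eq_of_sq_one_cyclic (four t s (sq_one ht) (sq_one hs) h) (Or.inr (Or.inr (Or.inl rfl)))
    (Or.inr (Or.inl rfl)) (ne_one_of_two hs) (ne_one_of_two ht) (sq_one hs) (sq_one ht))

/-- An element commuting with two commuting involutions lies in the four-group they generate. -/
theorem mem_four (hP : HasProp G) {t s x : G} (ht : orderOf t = 2) (hs : orderOf s = 2) (h : Commute t s)
    (hne : s ≠ t) (hxt : Commute x t) (hxs : Commute x s) : x = 1 ∨ x = t ∨ x = s ∨ x = t * s := by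
  have := hP _ (four_not_cyclic ht hs h hne) (mem_centralizer_iff.2 (fun y hy => by
    rcases hy with rfl | rfl | rfl | rfl
    · simp
    · exact hxt.eq.symm
    · exact hxs.eq.symm
    · exact (hxt.mul_right hxs).eq.symm) : x ∈ centralizer _)
  exact this

theorem sq_one_of_mem_four (hP : HasProp G) {t s x : G} (ht : orderOf t = 2) (hs : orderOf s = 2) (h : Commute t s)
    (hne : s ≠ t) (hxt : Commute x t) (hxs : Commute x s) : x * x = 1 := by
  rcases mem_four hP ht hs h hne hxt hxs with rfl | rfl | rfl | rfl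
  · exact one_mul 1
  · exact sq_one ht
  · exact sq_one hs
  · rw [mul_assoc, ← mul_assoc s t s, ← h.eq, mul_assoc t s s, sq_one hs, mul_one, sq_one ht]

theorem hasProp_subgroup (hP : HasProp G) (W : Subgroup G) : HasProp ↥W := by
  intro H hH x hx
  have hnc : ¬ IsCyclic ↥(H.map W.subtype) := fun hc => hH (by
    haveI := hc
    exact isCyclic_of_surjective (equivMapOfInjective H W.subtype W.subtype_injective).symm
      (equivMapOfInjective H W.subtype W.subtype_injective).symm.surjective)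
  obtain ⟨y, hy, hyx⟩ := hP _ hnc (mem_centralizer_iff.2 (by
    rintro _ ⟨y, hy, rfl⟩
    exact congrArg Subtype.val (mem_centralizer_iff.1 hx y hy)) : (x : G) ∈ centralizer _)
  rwa [Subtype.ext hyx] at hy

/-- The four possibilities for an odd square root of one modulo `2 ^ k`. -/
theorem sqrt_one_cases {e : ℤ} {k : ℕ} (hk : 2 ≤ k) (he : Odd e) (h : ((2 : ℤ) ^ k) ∣ e * e - 1) :
    ((2 : ℤ) ^ k ∣ e - 1) ∨ ((2 : ℤ) ^ k ∣ e + 1) ∨ ((2 : ℤ) ^ k ∣ e - 1 - 2 ^ (k - 1)) ∨
      ((2 : ℤ) ^ k ∣ e + 1 - 2 ^ (k - 1)) := by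
  obtain ⟨j, rfl⟩ : ∃ j, k = j + 2 := ⟨k - 2, by omega⟩
  obtain ⟨u, rfl⟩ := he
  have h' : (2 : ℤ) ^ j ∣ u * (u + 1) := by
    have : (2 : ℤ) ^ j * 4 ∣ u * (u + 1) * 4 := by
      rw [show (2 : ℤ) ^ j * 4 = 2 ^ (j + 2) by rw [pow_add]; norm_num,
        show u * (u + 1) * 4 = (2 * u + 1) * (2 * u + 1) - 1 by ring]
      exact h
    exact Int.dvd_of_mul_dvd_mul_right (by norm_num) this
  have hcop : ∀ w : ℤ, Odd w → IsCoprime ((2 : ℤ) ^ j) w := fun w hw => by
    refine IsCoprime.pow_left ?_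
    obtain ⟨v, rfl⟩ := hw
    exact ⟨-v, 1, by ring⟩
  have hd : (2 : ℤ) ^ j ∣ u ∨ (2 : ℤ) ^ j ∣ u + 1 := by
    rcases Int.even_or_odd u with hu | hu
    · exact Or.inl ((hcop _ hu.add_one).dvd_of_dvd_mul_right h')
    · exact Or.inr ((hcop _ hu).dvd_of_dvd_mul_left h')
  simp only [show j + 2 - 1 = j + 1 by omega]
  rcases hd with ⟨c, hc⟩ | ⟨c, hc⟩
  · rcases Int.even_or_odd c with ⟨v, hv⟩ | ⟨v, hv⟩
    · exact Or.inl ⟨v, by rw [hc, hv, pow_add]; ring⟩
    · exact Or.inr (Or.inr (Or.inl ⟨v, by rw [hc, hv, pow_add, pow_add]; ring⟩))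
  · have hu : u = 2 ^ j * c - 1 := by linarith
    rcases Int.even_or_odd c with ⟨v, hv⟩ | ⟨v, hv⟩
    · exact Or.inr (Or.inl ⟨v, by rw [hu, hv, pow_add]; ring⟩)
    · exact Or.inr (Or.inr (Or.inr ⟨v, by rw [hu, hv, pow_add, pow_add]; ring⟩))

/-- Dihedral or semidihedral shape with respect to the generator `r` and the involution `s`. -/
structure Shape (W : Subgroup G) (t s r : G) (k : ℕ) : Prop where
  k_pos : 1 ≤ k
  ord : orderOf r = 2 ^ k
  mem : r ∈ W
  t_eq : t = r ^ (2 ^ (k - 1))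
  not_mem : s ∉ zpowers r
  cases : ∀ w ∈ W, ∃ i : ℤ, w = r ^ i ∨ w = r ^ i * s
  act : s * r * s⁻¹ = r⁻¹ ∨ (3 ≤ k ∧ s * r * s⁻¹ = r ^ (2 ^ (k - 1) - 1))
  card : Nat.card ↥W = 2 ^ (k + 1)

theorem exists_shape (hP : HasProp G) (W : Subgroup G) (hW : IsPGroup 2 ↥W) {t s : G} (ht : orderOf t = 2)
    (hs : orderOf s = 2) (hne : s ≠ t) (htW : t ∈ W) (hsW : s ∈ W) (htc : ∀ w ∈ W, Commute w t) :
    ∃ (r : G) (k : ℕ), Shape W t s r k := by
  haveI : Fact (Nat.Prime 2) := ⟨Nat.prime_two⟩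
  have hts : Commute t s := (htc s hsW).symm
  by_cases hab : IsMulCommutative ↥W
  · have hall : ∀ w ∈ W, w = 1 ∨ w = t ∨ w = s ∨ w = t * s := fun w hw =>
      mem_four hP ht hs hts hne (htc w hw) (congrArg Subtype.val (mul_comm' (⟨w, hw⟩ : ↥W) ⟨s, hsW⟩))
    refine ⟨t, 1, le_rfl, by simpa using ht, htW, by simp, ?_, fun w hw => ?_, Or.inl ?_, ?_⟩
    · intro hst
      exact hne (eq_of_sq_one_cyclic (zpowers t) hst (mem_zpowers t) (ne_one_of_two hs) (ne_one_of_two ht)
        (sq_one hs) (sq_one ht))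
    · rcases hall w hw with rfl | rfl | rfl | rfl
      · exact ⟨0, Or.inl (by simp)⟩
      · exact ⟨1, Or.inl (by simp)⟩
      · exact ⟨0, Or.inr (by simp)⟩
      · exact ⟨1, Or.inr (by simp)⟩
    · rw [inv_eq_self hs, inv_eq_self ht, ← hts.eq, mul_assoc, sq_one hs, mul_one]
    · have e : (W : Set G) = {1, t, s, t * s} := by
        refine Set.Subset.antisymm (fun w hw => ?_) ?_
        · exact hall w hw
        · rintro w (rfl | rfl | rfl | rfl)
          exacts [W.one_mem, htW, hsW, W.mul_mem htW hsW]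
      have n1 : (1 : G) ∉ ({t, s, t * s} : Set G) := by
        rintro (h | h | h)
        · exact ne_one_of_two ht h.symm
        · exact ne_one_of_two hs h.symm
        · exact hne (by rw [eq_inv_of_mul_eq_one_right h.symm, inv_eq_self ht])
      have n2 : t ∉ ({s, t * s} : Set G) := by
        rintro (h | h)
        · exact hne h.symm
        · exact ne_one_of_two hs (left_eq_mul.1 h)
      have n3 : s ≠ t * s := fun h => ne_one_of_two ht (right_eq_mul.1 h)
      rw [← SetLike.coe_sort_coe, Nat.card_coe_set_eq, e, Set.ncard_insert_of_notMem n1 (Set.toFinite _),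
        Set.ncard_insert_of_notMem n2 (Set.toFinite _), Set.ncard_pair n3]
      norm_num
  obtain ⟨n, hn⟩ := IsPGroup.iff_card.1 hW
  have hn3 : 3 ≤ n := by
    by_contra h
    refine hab ?_
    interval_cases n
    · haveI : Subsingleton ↥W := (Nat.card_eq_one_iff_unique.1 (by simpa using hn)).1
      exact ⟨⟨fun a b => Subsingleton.elim _ _⟩⟩
    · haveI := isCyclic_of_prime_card (show Nat.card ↥W = 2 by simpa using hn)
      letI : CommGroup ↥W := IsCyclic.commGroup
      exact ⟨⟨fun a b => mul_comm a b⟩⟩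
    · exact IsPGroup.isMulCommutative_of_card_eq_prime_sq (p := 2) hn
  have hcls : Group.nilpotencyClass ↥W = n - 1 := by
    have h1 := (Cfsg.Agent.S3919.result hab n hn).1 (hasProp_subgroup hP W)
    haveI : Group.IsNilpotent ↥W := hW.isNilpotent
    rw [Ne, Subgroup.lowerCentralSeries_eq_bot_iff_nilpotencyClass_le] at h1
    have := Cfsg.Lib.MaxClass.class_le n ↥W hn (by omega)
    omega
  obtain ⟨C, hCc, hCi⟩ := Cfsg.Agent.S0113.result n hn3 hn hcls
  obtain ⟨r₀, hr₀⟩ := (Subgroup.isCyclic_iff_exists_zpowers_eq_top C).1 hCc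
  have hk : orderOf r₀ = 2 ^ (n - 1) := by
    have h1 := C.card_mul_index
    rw [hCi, hn, show n = (n - 1) + 1 by omega, pow_succ] at h1
    rw [← Nat.card_zpowers, hr₀]
    exact Nat.eq_of_mul_eq_mul_right two_pos h1
  set r : G := (r₀ : G) with hr
  have hrord : orderOf r = 2 ^ (n - 1) := by rw [hr, Subgroup.orderOf_coe, hk]
  have hdec : ∀ (u : ↥W), u ∉ C → ∀ w : ↥W, w ∈ C ∨ w * u⁻¹ ∈ C := by
    intro u hu w
    by_cases hw : w ∈ C
    · exact Or.inl hw
    · exact Or.inr ((Subgroup.mul_mem_iff_of_index_two hCi).2 (by simp [hw, hu]))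
  have htC : (⟨t, htW⟩ : ↥W) ∈ C := by
    by_contra htn
    refine hab ⟨⟨fun a b => ?_⟩⟩
    have hcomm : ∀ c ∈ C, ∀ c' ∈ C, c * c' = c' * c := fun c hc c' hc' => by
      rw [← hr₀] at hc hc'
      obtain ⟨i, rfl⟩ := hc
      obtain ⟨j, rfl⟩ := hc'
      exact (Commute.zpow_zpow (Commute.refl r₀) i j).eq
    have hdec' : ∀ w : ↥W, ∃ c ∈ C, w = c ∨ w = c * ⟨t, htW⟩ := fun w => by
      rcases hdec _ htn w with h | h
      · exact ⟨w, h, Or.inl rfl⟩
      · exact ⟨_, h, Or.inr (by group)⟩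
    have hct : ∀ w : ↥W, Commute w ⟨t, htW⟩ := fun w => Subtype.ext (htc w w.2).eq
    obtain ⟨c, hc, ha⟩ := hdec' a
    obtain ⟨c', hc', hb⟩ := hdec' b
    have h0 : Commute c c' := hcomm c hc c' hc'
    rcases ha with rfl | rfl <;> rcases hb with rfl | rfl
    · exact h0.eq
    · exact (h0.mul_right (hct _)).eq
    · exact (h0.mul_left (hct _).symm).eq
    · exact ((h0.mul_right (hct _)).mul_left ((hct _).symm.mul_right (Commute.refl _))).eq
  have htR : t ∈ zpowers r := by
    rw [← hr₀] at htC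
    obtain ⟨i, hi⟩ := htC
    exact ⟨i, by simpa using congrArg Subtype.val hi⟩
  have hsR : s ∉ zpowers r := fun h =>
    hne (eq_of_sq_one_cyclic (zpowers r) h htR (ne_one_of_two hs) (ne_one_of_two ht) (sq_one hs) (sq_one ht))
  have hsC : (⟨s, hsW⟩ : ↥W) ∉ C := fun h => hsR (by
    rw [← hr₀] at h
    obtain ⟨i, hi⟩ := h
    exact ⟨i, by simpa using congrArg Subtype.val hi⟩)
  have hteq : t = r ^ (2 ^ (n - 1 - 1)) := by
    have h2 : orderOf (r ^ (2 ^ (n - 1 - 1))) = 2 := by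
      rw [orderOf_pow' _ (by positivity), hrord, Nat.gcd_eq_right (pow_dvd_pow 2 (by omega)),
        Nat.pow_div (by omega) two_pos, show n - 1 - (n - 1 - 1) = 1 by omega, pow_one]
    exact eq_of_sq_one_cyclic (zpowers r) htR (pow_mem (mem_zpowers r) _) (ne_one_of_two ht) (ne_one_of_two h2)
      (sq_one ht) (sq_one h2)
  obtain ⟨e, he⟩ : s * r * s⁻¹ ∈ zpowers r := by
    haveI : C.Normal := Subgroup.normal_of_index_eq_two hCi
    have h1 := ‹C.Normal›.conj_mem r₀ (hr₀ ▸ mem_zpowers r₀) ⟨s, hsW⟩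
    rw [← hr₀] at h1
    obtain ⟨i, hi⟩ := h1
    exact ⟨i, by simpa using congrArg Subtype.val hi⟩
  simp only at he
  have hcom : ∀ j : ℤ, r ^ (e * j) = r ^ j → (2 : ℤ) ^ (n - 1) ∣ 2 * j := by
    intro j hj
    have h1 : Commute (r ^ j) s := by
      have : s * r ^ j * s⁻¹ = r ^ j := by rw [← conj_zpow, ← he, ← zpow_mul, hj]
      exact (mul_inv_eq_iff_eq_mul.1 this).symm
    have h2 := sq_one_of_mem_four hP ht hs hts hne (htc _ (zpow_mem r₀.2 j)) h1
    rw [← zpow_add, ← two_mul, ← orderOf_dvd_iff_zpow_eq_one, hrord] at h2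
    exact_mod_cast h2
  have hsq : (2 : ℤ) ^ (n - 1) ∣ e * e - 1 := by
    have h1 : r ^ (e * e) = r ^ (1 : ℤ) := by
      rw [zpow_mul, he, conj_zpow, he]
      rw [show s * (s * r * s⁻¹) * s⁻¹ = (s * s) * r * (s * s)⁻¹ by group, sq_one hs]
      group
    rw [← orderOf_dvd_sub_iff_zpow_eq_zpow, hrord] at h1
    exact_mod_cast h1
  have hodd : Odd e := by
    by_contra h
    rw [Int.not_odd_iff_even] at h
    obtain ⟨v, hv⟩ := h
    have h2 : (2 : ℤ) ∣ e * e - 1 := (dvd_pow_self 2 (by omega)).trans hsq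
    subst hv
    obtain ⟨w, hw⟩ := h2
    have : (2 : ℤ) ∣ 1 := ⟨2 * v * v - w, by linarith⟩
    norm_num at this
  refine ⟨r, n - 1, by omega, hrord, r₀.2, hteq, hsR, fun w hw => ?_, ?_, by rw [hn]; congr 1; omega⟩
  · rcases hdec _ hsC ⟨w, hw⟩ with h | h <;> rw [← hr₀] at h <;> obtain ⟨i, hi⟩ := h
    · exact ⟨i, Or.inl (by simpa using (congrArg Subtype.val hi).symm)⟩
    · refine ⟨i, Or.inr ?_⟩
      have h' : r ^ i = w * s⁻¹ := by simpa using congrArg Subtype.val hi
      rw [h', inv_mul_cancel_right]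
  have hpow : (2 : ℤ) ^ (n - 1) = 2 ^ (n - 1 - 1) * 2 := by rw [← pow_succ]; congr 1; omega
  have hno : ∀ j : ℤ, (2 : ℤ) ^ (n - 1) ∣ j * (e - 1) → (2 : ℤ) ^ (n - 1) ∣ 2 * j := by
    intro j hj
    refine hcom j ?_
    rw [← orderOf_dvd_sub_iff_zpow_eq_zpow, hrord]
    rw [show e * j - j = j * (e - 1) by ring]
    exact_mod_cast hj
  have hsmall : ∀ m : ℕ, m < n - 1 → ¬ (2 : ℤ) ^ (n - 1) ∣ 2 ^ m := fun m hm h => by
    have h1 : (2 : ℕ) ^ (n - 1) ∣ 2 ^ m := by exact_mod_cast h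
    exact absurd ((Nat.pow_dvd_pow_iff_le_right (by norm_num)).1 h1) (by omega)
  rcases sqrt_one_cases (by omega) hodd hsq with h | h | h | h
  · exfalso
    exact hsmall 1 (by omega) (by simpa using hno 1 (by simpa using h))
  · left
    rw [← he, ← zpow_neg_one, ← orderOf_dvd_sub_iff_zpow_eq_zpow, hrord, sub_neg_eq_add]
    exact_mod_cast h
  · rcases Nat.lt_or_ge (n - 1) 3 with hk3 | hk3
    · left
      have h4 : (2 : ℤ) ^ (n - 1) ∣ e + 1 := by
        have hn1 : n - 1 = 2 := by omega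
        rw [hn1] at h ⊢
        norm_num at h ⊢
        obtain ⟨v, hv⟩ := h
        exact ⟨v + 1, by linarith⟩
      rw [← he, ← zpow_neg_one, ← orderOf_dvd_sub_iff_zpow_eq_zpow, hrord, sub_neg_eq_add]
      exact_mod_cast h4
    · exfalso
      refine hsmall 2 (by omega) ?_
      have h2 := hno 2 (by
        obtain ⟨v, hv⟩ := h
        exact ⟨2 * v + 1, by rw [show e - 1 = 2 ^ (n - 1) * v + 2 ^ (n - 1 - 1) by linarith, hpow]; ring⟩)
      simpa [pow_two] using h2
  · rcases Nat.lt_or_ge (n - 1) 3 with hk3 | hk3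
    · exfalso
      have hn1 : n - 1 = 2 := by omega
      have h4 : (2 : ℤ) ^ (n - 1) ∣ e - 1 := by
        rw [hn1] at h ⊢
        norm_num at h ⊢
        obtain ⟨v, hv⟩ := h
        exact ⟨v, by linarith⟩
      exact hsmall 1 (by omega) (by simpa using hno 1 (by simpa using h4))
    · right
      refine ⟨hk3, ?_⟩
      rw [← he, ← zpow_natCast, ← orderOf_dvd_sub_iff_zpow_eq_zpow, hrord]
      have hge : 1 ≤ 2 ^ (n - 1 - 1) := Nat.one_le_two_pow
      push_cast [Nat.cast_sub hge]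
      rw [show e - ((2 : ℤ) ^ (n - 1 - 1) - 1) = e + 1 - 2 ^ (n - 1 - 1) by ring]
      exact h

theorem pow_mul_conj {x r : G} {j : ℤ} (h : x * r * x⁻¹ = r ^ j) (n : ℕ) : x ^ n * r * (x ^ n)⁻¹ = r ^ (j ^ n) := by
  induction n with
  | zero => simp
  | succ n ih =>
    calc x ^ (n + 1) * r * (x ^ (n + 1))⁻¹ = x * (x ^ n * r * (x ^ n)⁻¹) * x⁻¹ := by rw [pow_succ']; group
      _ = (x * r * x⁻¹) ^ (j ^ n) := by rw [ih, conj_zpow]
      _ = r ^ (j ^ (n + 1)) := by rw [h, ← zpow_mul, pow_succ']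

/-- An element of odd order normalizing a shaped subgroup and fixing `t` is trivial. -/
theorem odd_normalizing_trivial (hP : HasProp G) {W : Subgroup G} {t s r x : G} {k : ℕ} (S : Shape W t s r k)
    (ht : orderOf t = 2) (hs : orderOf s = 2) (hne : s ≠ t) (hts : Commute t s) (hsW : s ∈ W)
    (hx : Odd (orderOf x)) (hxt : Commute x t) (hxW : ∀ w ∈ W, x * w * x⁻¹ ∈ W) : x = 1 := by
  have hk := S.k_pos
  obtain ⟨j, hj⟩ : ∃ j : ℤ, x * r * x⁻¹ = r ^ j := by
    rcases Nat.lt_or_ge k 2 with hk2 | hk2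
    · refine ⟨1, ?_⟩
      have : t = r := by simpa [show k = 1 by omega] using S.t_eq
      rw [← this, hxt.eq, mul_inv_cancel_right, zpow_one]
    obtain ⟨i, hi | hi⟩ := S.cases _ (hxW r S.mem)
    · exact ⟨i, hi⟩
    · exfalso
      have ho : orderOf (r ^ i * s) = 2 ^ k := by
        rw [← hi, show x * r * x⁻¹ = MulAut.conj x r from rfl, MulEquiv.orderOf_eq, S.ord]
      have e0 : r ^ i * s * (r ^ i * s) = r ^ i * (s * r * s⁻¹) ^ i := by
        rw [conj_zpow, inv_eq_self hs]; group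
      rcases S.act with h | ⟨hk3, h⟩
      · have h1 : (r ^ i * s) ^ 2 = 1 := by rw [pow_two, e0, h, inv_zpow, mul_inv_cancel]
        have h2 := orderOf_dvd_of_pow_eq_one h1
        rw [ho] at h2
        have h4 : 2 ^ 2 ≤ 2 ^ k := Nat.pow_le_pow_right two_pos hk2
        have := Nat.le_of_dvd two_pos h2
        omega
      · have h1 : (r ^ i * s) ^ 4 = 1 := by
          have e1 : r * r ^ (2 ^ (k - 1) - 1) = t := by
            rw [← pow_succ', Nat.sub_add_cancel Nat.one_le_two_pow, S.t_eq]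
          have e2 : (r ^ i * s) ^ 2 = t ^ i := by
            rw [pow_two, e0, h, ← ((Commute.refl r).pow_right _).mul_zpow, e1]
          rw [show (4 : ℕ) = 2 * 2 from rfl, pow_mul, e2, ← zpow_natCast, ← zpow_mul, mul_comm, zpow_mul,
            zpow_natCast, pow_two, sq_one ht, one_zpow]
        have h2 := orderOf_dvd_of_pow_eq_one h1
        rw [ho] at h2
        have h4 : 2 ^ 3 ≤ 2 ^ k := Nat.pow_le_pow_right two_pos hk3
        have := Nat.le_of_dvd (by norm_num) h2
        omega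
  -- the automorphism induced on the cyclic part has odd order, hence is trivial
  have hxr : Commute x r := by
    have h1 : r ^ (j ^ orderOf x) = r ^ (1 : ℤ) := by rw [← pow_mul_conj hj, pow_orderOf_eq_one]; simp
    rw [← orderOf_dvd_sub_iff_zpow_eq_zpow, S.ord] at h1
    have hj1 : ((j : ZMod (2 ^ k))) ^ orderOf x = 1 := by
      rw [← sub_eq_zero, ← Int.cast_pow, ← Int.cast_one, ← Int.cast_sub, ZMod.intCast_zmod_eq_zero_iff_dvd]
      exact h1
    obtain ⟨u, hu⟩ := IsUnit.of_pow_eq_one hj1 hx.pos.ne'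
    have hu1 : u ^ orderOf x = 1 := Units.ext (by rw [Units.val_pow_eq_pow_val, hu, hj1, Units.val_one])
    have hu2 : u ^ (2 ^ (k - 1)) = 1 := by
      have := ZMod.pow_totient u
      rwa [Nat.totient_prime_pow Nat.prime_two (by omega), show 2 ^ (k - 1) * (2 - 1) = 2 ^ (k - 1) by norm_num] at this
    have hu3 : u = 1 := orderOf_eq_one_iff.1 (Nat.eq_one_of_dvd_coprimes
      (Nat.Coprime.pow_right _ (Nat.coprime_two_right.2 hx)) (orderOf_dvd_of_pow_eq_one hu1) (orderOf_dvd_of_pow_eq_one hu2))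
    have hj2 : r ^ j = r ^ (1 : ℤ) := by
      rw [← orderOf_dvd_sub_iff_zpow_eq_zpow, S.ord, ← ZMod.intCast_zmod_eq_zero_iff_dvd, Int.cast_sub, Int.cast_one,
        ← hu, hu3, Units.val_one, sub_self]
    rw [hj2, zpow_one] at hj
    exact mul_inv_eq_iff_eq_mul.1 hj
  have hxs : Commute x s := by
    obtain ⟨i, hi | hi⟩ := S.cases _ (hxW s hsW)
    · exfalso
      refine S.not_mem ⟨i, ?_⟩
      have : Commute x (r ^ i) := hxr.zpow_right i
      calc r ^ i = x⁻¹ * (x * r ^ i) := by group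
        _ = x⁻¹ * (r ^ i * x) := by rw [this.eq]
        _ = s := by rw [← hi]; group
    · have hpow : ∀ m : ℕ, x ^ m * s * (x ^ m)⁻¹ = r ^ (i * m) * s := by
        intro m
        induction m with
        | zero => simp
        | succ m ih =>
          calc x ^ (m + 1) * s * (x ^ (m + 1))⁻¹ = x * (x ^ m * s * (x ^ m)⁻¹) * x⁻¹ := by rw [pow_succ']; group
            _ = (x * r ^ (i * m)) * s * x⁻¹ := by rw [ih]; group
            _ = r ^ (i * m) * (x * s * x⁻¹) := by rw [(hxr.zpow_right (i * m)).eq]; group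
            _ = r ^ (i * (m + 1 : ℕ)) * s := by
              rw [hi, ← mul_assoc, ← zpow_add]; congr 2; push_cast; ring
      have h1 := hpow (orderOf x)
      rw [pow_orderOf_eq_one, one_mul, inv_one, mul_one, eq_comm, mul_eq_right,
        ← orderOf_dvd_iff_zpow_eq_one, S.ord] at h1
      have hcop : IsCoprime (((2 ^ k : ℕ) : ℤ)) ((orderOf x : ℕ) : ℤ) :=
        Int.isCoprime_iff_nat_coprime.2 (by simpa using Nat.Coprime.pow_left k (Nat.coprime_two_left.2 hx))
      have h2 := hcop.dvd_of_dvd_mul_right h1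
      rw [← S.ord, orderOf_dvd_iff_zpow_eq_one] at h2
      rw [h2, one_mul] at hi
      exact mul_inv_eq_iff_eq_mul.1 hi
  have h2 := orderOf_dvd_of_pow_eq_one ((pow_two x).trans (sq_one_of_mem_four hP ht hs hts hne hxt hxs))
  exact orderOf_eq_one_iff.1 (Nat.eq_one_of_dvd_coprimes (Nat.coprime_two_right.2 hx) dvd_rfl h2)

end Cfsg.Lib.SelfCentNC
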